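import Mathlib

/-! Squarefree forms and their restrictions to lines. -/

set_option autoImplicit false
universe u

namespace Groth.Agent.SqfreeFormLib

open MvPolynomial

variable {k : Type u} [Field k] {σ : Type} [Fintype σ]

/-- An irreducible polynomial over an algebraically closed field has a non-zero partial derivative. -/
theorem exists_pderiv_ne_zero [IsAlgClosed k] {p : MvPolynomial σ k} (hp : Irreducible p) :
    ∃ i, pderiv i p ≠ 0 := by
  classical
  by_contra h
  push Not at h
  have hz : ∀ e ∈ p.support, ∀ i, ((e i : ℕ) : k) = 0 := by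
    intro e he i
    rcases Nat.eq_zero_or_pos (e i) with h0 | h0
    · simp [h0]
    · have hc := congrArg (coeff (e - Finsupp.single i 1)) (h i)
      have hle : Finsupp.single i 1 ≤ e := Finsupp.single_le_iff.2 h0
      rw [coeff_pderiv, tsub_add_cancel_of_le hle, coeff_zero, Finsupp.tsub_apply,
        Finsupp.single_eq_same, Nat.cast_sub h0, Nat.cast_one, sub_add_cancel] at hc
      exact (mul_eq_zero.1 hc).resolve_left (mem_support_iff.1 he)
  obtain ⟨q, hq⟩ := CharP.exists k
  rcases CharP.char_is_prime_or_zero k q with hq' | rfl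
  · haveI := Fact.mk hq'
    choose r hr using fun c : k => IsAlgClosed.exists_pow_nat_eq c hq'.pos
    let g : MvPolynomial σ k := ∑ e ∈ p.support,
      monomial (e.mapRange (· / q) (Nat.zero_div q)) (r (p.coeff e))
    have hg : g ^ q = p := by
      rw [show g ^ q = ∑ e ∈ p.support, (monomial (e.mapRange (· / q) (Nat.zero_div q))
        (r (p.coeff e))) ^ q from sum_pow_char q _ _]
      conv_rhs => rw [← support_sum_monomial_coeff p]
      refine Finset.sum_congr rfl fun e he => ?_
      rw [monomial_pow, hr]
      refine congrArg (fun d => monomial d (p.coeff e)) (Finsupp.ext fun i => ?_)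
      show q * (e i / q) = e i
      exact Nat.mul_div_cancel' ((CharP.cast_eq_zero_iff k q _).1 (hz e he i))
    exact not_irreducible_pow hq'.one_lt.ne' (hg ▸ hp)
  · haveI := CharP.charP_to_charZero k
    have hpc : p = C (p.coeff 0) := by
      ext e
      rw [coeff_C]
      split_ifs with he
      · rw [← he]
      · by_contra hne
        refine he (Finsupp.ext fun i => ?_)
        have := hz e (mem_support_iff.2 hne) i
        simpa [eq_comm] using (Nat.cast_eq_zero.1 this)
    refine hp.not_isUnit ?_
    rw [hpc]
    refine (isUnit_iff_ne_zero.2 fun h0 => hp.ne_zero ?_).map C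
    rw [hpc, h0, map_zero]

/-- Restriction to the line through `a` with direction `b`. -/
noncomputable def line {R : Type u} [CommRing R] [Algebra k R] (a : σ → R) (b : σ → k) :
    MvPolynomial σ k →ₐ[k] Polynomial R :=
  aeval fun i => Polynomial.C (a i) + Polynomial.C (algebraMap k R (b i)) * Polynomial.X

variable {R : Type u} [CommRing R] [Algebra k R]

theorem line_X (a : σ → R) (b : σ → k) (i : σ) :
    line a b (X i) = Polynomial.C (a i) + Polynomial.C (algebraMap k R (b i)) * Polynomial.X :=
  aeval_X _ i

theorem line_C (a : σ → R) (b : σ → k) (c : k) : line a b (C c) = Polynomial.C (algebraMap k R c) := by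
  rw [line, aeval_C]; rfl

theorem map_line {R' : Type u} [CommRing R'] [Algebra k R'] (f : R →ₐ[k] R') (a : σ → R) (b : σ → k)
    (p : MvPolynomial σ k) : (line a b p).map f.toRingHom = line (f ∘ a) b p := by
  induction p using MvPolynomial.induction_on with
  | C c => simp [line_C]
  | add p q hp hq => simp only [map_add, Polynomial.map_add, hp, hq]
  | mul_X p i hp =>
    rw [map_mul, map_mul, Polynomial.map_mul, hp, line_X, line_X]
    simp

theorem line_monomial (a : σ → R) (b : σ → k) (e : σ →₀ ℕ) (s : Finset σ) :
    (∏ i ∈ s, (line a b (X i)) ^ e i).natDegree ≤ ∑ i ∈ s, e i ∧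
      (∏ i ∈ s, (line a b (X i)) ^ e i).coeff (∑ i ∈ s, e i) = algebraMap k R (∏ i ∈ s, b i ^ e i) := by
  classical
  induction s using Finset.induction with
  | empty => simp
  | insert i s his ih =>
    have hdeg : (line a b (X i)).natDegree ≤ 1 := by
      rw [line_X]; exact (Polynomial.natDegree_add_le _ _).trans (max_le (by simp) ((Polynomial.natDegree_C_mul_le _ _).trans Polynomial.natDegree_X_le))
    have h1 : (line a b (X i) ^ e i).natDegree ≤ e i := by
      simpa using Polynomial.natDegree_pow_le_of_le (e i) hdeg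
    have h2 : (line a b (X i) ^ e i).coeff (e i) = algebraMap k R (b i) ^ e i := by
      have := Polynomial.coeff_pow_of_natDegree_le (m := e i) hdeg
      rw [mul_one] at this
      rw [this, line_X]; simp
    rw [Finset.prod_insert his, Finset.sum_insert his, Finset.prod_insert his, map_mul, map_pow]
    refine ⟨Polynomial.natDegree_mul_le_of_le h1 ih.1, ?_⟩
    rw [Polynomial.coeff_mul_add_eq_of_natDegree_le h1 ih.1, h2, ih.2]

theorem line_degree (a : σ → R) (b : σ → k) {d : ℕ} (p : MvPolynomial σ k) (hd : p.totalDegree ≤ d) :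
    (line a b p).natDegree ≤ d ∧
      (line a b p).coeff d = algebraMap k R (eval b (homogeneousComponent d p)) := by
  classical
  have key : ∀ e ∈ p.support, (line a b (monomial e (p.coeff e))).natDegree ≤ d ∧
      (line a b (monomial e (p.coeff e))).coeff d =
        if e.degree = d then algebraMap k R (eval b (monomial e (p.coeff e))) else 0 := by
    intro e he
    have hsum : ∑ i, e i = e.degree := by rw [Finsupp.degree_eq_sum]
    have hle : e.degree ≤ d := le_trans (le_totalDegree (p := p) he) hd
    have heq : line a b (monomial e (p.coeff e)) =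
        Polynomial.C (algebraMap k R (p.coeff e)) * ∏ i, (line a b (X i)) ^ e i := by
      rw [monomial_eq, map_mul, line_C, Finsupp.prod_fintype _ _ (fun i => pow_zero _), map_prod]
      simp only [map_pow]
    obtain ⟨h1, h2⟩ := line_monomial a b e Finset.univ
    rw [hsum] at h1 h2
    refine ⟨heq ▸ ((Polynomial.natDegree_C_mul_le _ _).trans (h1.trans hle)), ?_⟩
    rw [heq, Polynomial.coeff_C_mul]
    split_ifs with h
    · subst h
      rw [h2, ← map_mul, eval_monomial, Finsupp.prod_fintype _ _ (fun i => pow_zero _)]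
    · rw [Polynomial.coeff_eq_zero_of_natDegree_lt (lt_of_le_of_lt h1 (lt_of_le_of_ne hle h)), mul_zero]
  have hp : line a b p = ∑ e ∈ p.support, line a b (monomial e (p.coeff e)) := by
    rw [← map_sum, support_sum_monomial_coeff]
  refine ⟨hp ▸ Polynomial.natDegree_sum_le_of_forall_le _ _ (fun e he => (key e he).1), ?_⟩
  rw [hp, Polynomial.finset_sum_coeff, Finset.sum_congr rfl (fun e he => (key e he).2),
    homogeneousComponent_apply, map_sum, map_sum, Finset.sum_filter]

theorem coeff_line_of_isHomogeneous (a : σ → R) (b : σ → k) {d : ℕ} {p : MvPolynomial σ k}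
    (hp : p.IsHomogeneous d) : (line a b p).coeff d = algebraMap k R (eval b p) := by
  rw [(line_degree a b p hp.totalDegree_le).2, homogeneousComponent_of_mem hp, if_pos rfl]

/-- A polynomial whose restriction to a line is separable of full degree is squarefree. -/
theorem squarefree_of_line (a b : σ → k) {d : ℕ} {p : MvPolynomial σ k} (hd : p.totalDegree ≤ d)
    (hlc : (line a b p).coeff d ≠ 0) (hsep : (line a b p).Separable) : Squarefree p := by
  intro x hx
  obtain ⟨y, rfl⟩ := hx
  have hne : x * x * y ≠ 0 := fun h => hlc (by rw [h, map_zero, Polynomial.coeff_zero])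
  have hu : IsUnit (line a b x) :=
    hsep.squarefree (line a b x) (by rw [map_mul, map_mul]; exact dvd_mul_right _ _)
  have hxy := mul_ne_zero_iff.1 hne
  have hx0 := (mul_ne_zero_iff.1 hxy.1).1
  have hdeg : (x * x * y).totalDegree = 2 * x.totalDegree + y.totalDegree := by
    rw [totalDegree_mul_of_isDomain hxy.1 hxy.2, totalDegree_mul_of_isDomain hx0 hx0]; ring
  have hle : d ≤ y.totalDegree := by
    refine (Polynomial.le_natDegree_of_ne_zero hlc).trans ?_
    rw [map_mul, map_mul]
    refine (Polynomial.natDegree_mul_le.trans (add_le_add Polynomial.natDegree_mul_le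
      (line_degree a b y le_rfl).1)).trans ?_
    rw [Polynomial.natDegree_eq_zero_of_isUnit hu]
    omega
  have hx' : x.totalDegree = 0 := by omega
  rw [totalDegree_eq_zero_iff_eq_C] at hx'
  rw [hx']
  refine (isUnit_iff_ne_zero.2 fun h0 => hx0 ?_).map C
  rw [hx', h0, map_zero]

/-- The directional derivative. -/
noncomputable def dir (b : σ → k) : MvPolynomial σ k →ₗ[k] MvPolynomial σ k :=
  ∑ i, b i • (pderiv i).toLinearMap

theorem dir_apply (b : σ → k) (p : MvPolynomial σ k) : dir b p = ∑ i, b i • pderiv i p := by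
  simp [dir]

theorem dir_mul (b : σ → k) (p q : MvPolynomial σ k) : dir b (p * q) = dir b p * q + p * dir b q := by
  simp only [dir_apply, pderiv_mul, smul_add, Finset.sum_add_distrib, Finset.sum_mul, Finset.mul_sum,
    smul_mul_assoc, mul_smul_comm]

theorem derivative_line (a : σ → R) (b : σ → k) (p : MvPolynomial σ k) :
    Polynomial.derivative (line a b p) = line a b (dir b p) := by
  classical
  induction p using MvPolynomial.induction_on with
  | C c => simp [line_C, dir_apply]
  | add p q hp hq => simp only [map_add, hp, hq]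
  | mul_X p i hp =>
    rw [map_mul, Polynomial.derivative_mul, hp, dir_mul, map_add, map_mul, map_mul]
    congr 2
    rw [line_X]
    simp [dir_apply, Pi.single_apply, smul_eq_C_mul, line_C]

theorem totalDegree_dir_lt (b : σ → k) {p : MvPolynomial σ k} (h : dir b p ≠ 0) :
    (dir b p).totalDegree < p.totalDegree := by
  classical
  obtain ⟨e, he, hed⟩ := Finset.exists_mem_eq_sup _ (support_nonempty.2 h)
    (fun s : σ →₀ ℕ => s.sum fun _ n => n)
  obtain ⟨i, hi⟩ : ∃ i, e + Finsupp.single i 1 ∈ p.support := by
    by_contra hno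
    push Not at hno
    refine (mem_support_iff.1 he) ?_
    rw [dir_apply, coeff_sum]
    refine Finset.sum_eq_zero fun i _ => ?_
    rw [coeff_smul, coeff_pderiv, notMem_support_iff.1 (hno i)]
    simp
  have hle := le_totalDegree hi
  rw [Finsupp.sum_add_index' (fun _ => rfl) (fun _ _ _ => rfl), Finsupp.sum_single_index rfl] at hle
  calc (dir b p).totalDegree = e.sum fun _ n => n := hed
    _ < p.totalDegree := by omega

/-- A direction which is transversal to a squarefree polynomial. -/
theorem exists_dir [IsAlgClosed k] {F : MvPolynomial σ k} (hF : Squarefree F) :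
    ∃ b : σ → k, eval b F ≠ 0 ∧ IsRelPrime F (dir b F) := by
  classical
  have hF0 : F ≠ 0 := hF.ne_zero
  let fs := UniqueFactorizationMonoid.factors F
  have hQ : ∀ Q ∈ fs.toFinset, ∃ q : MvPolynomial σ k, q ≠ 0 ∧ ∀ b, eval b q ≠ 0 → dir b Q ≠ 0 := by
    intro Q hQ
    obtain ⟨i, hi⟩ := exists_pderiv_ne_zero
      (UniqueFactorizationMonoid.irreducible_of_factor Q (Multiset.mem_toFinset.1 hQ))
    obtain ⟨e, he⟩ := support_nonempty.2 hi
    refine ⟨∑ j, C ((pderiv j Q).coeff e) * X j, fun h0 => (mem_support_iff.1 he) ?_, fun b hb h => hb ?_⟩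
    · simpa [Pi.single_apply] using congrArg (eval (Pi.single i 1)) h0
    · have := congrArg (coeff e) h
      rw [dir_apply, coeff_sum, coeff_zero] at this
      rw [← this]
      simp [mul_comm]
  choose! q hq hq' using hQ
  have hne : F * ∏ Q ∈ fs.toFinset, q Q ≠ 0 := mul_ne_zero hF0 (Finset.prod_ne_zero_iff.2 hq)
  obtain ⟨b, hb⟩ : ∃ b : σ → k, eval b (F * ∏ Q ∈ fs.toFinset, q Q) ≠ 0 := by
    by_contra h
    push Not at h
    exact hne (funext fun x => by simpa using h x)
  rw [map_mul, map_prod, mul_ne_zero_iff, Finset.prod_ne_zero_iff] at hb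
  refine ⟨b, hb.1, WfDvdMonoid.isRelPrime_of_no_irreducible_factors (fun h => hF0 h.1) fun Q hQi hQF hQD => ?_⟩
  obtain ⟨Q', hQ', hQQ'⟩ := UniqueFactorizationMonoid.exists_mem_factors_of_dvd hF0 hQi hQF
  obtain ⟨c, hc⟩ := hQQ'.symm.dvd.trans hQF
  have hP : Prime Q' := UniqueFactorizationMonoid.prime_of_factor Q' hQ'
  have hd : Q' ∣ dir b F := hQQ'.symm.dvd.trans hQD
  rw [hc, dir_mul] at hd
  rcases hP.dvd_or_dvd ((dvd_add_left (dvd_mul_right Q' _)).1 hd) with h | h
  · have hne' := hq' Q' (Multiset.mem_toFinset.2 hQ') b (hb.2 Q' (Multiset.mem_toFinset.2 hQ'))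
    obtain ⟨c', hc'⟩ := h
    have hlt := totalDegree_dir_lt b hne'
    have h2 : Q'.totalDegree ≤ (dir b Q').totalDegree := by
      have hm := mul_ne_zero_iff.1 (hc' ▸ hne')
      rw [hc', totalDegree_mul_of_isDomain hm.1 hm.2]
      exact Nat.le_add_right _ _
    omega
  · obtain ⟨c', hc'⟩ := h
    exact hP.not_unit (hF Q' ⟨c', by rw [hc, hc', mul_assoc]⟩)

theorem resultant_ne_zero_of_separable {K : Type u} [Field K] {p : Polynomial K} {d : ℕ}
    (hp : p.natDegree ≤ d) (hlc : p.coeff d ≠ 0) (hsep : p.Separable) :
    Polynomial.resultant p p.derivative d (d - 1) ≠ 0 := by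
  have hdeg : p.natDegree = d := le_antisymm hp (Polynomial.le_natDegree_of_ne_zero hlc)
  have hn : p.derivative.natDegree ≤ d - 1 := hdeg ▸ Polynomial.natDegree_derivative_le p
  obtain ⟨j, hj⟩ := Nat.exists_eq_add_of_le hn
  have hr := Polynomial.resultant_ne_zero p p.derivative hsep
  rw [hdeg] at hr
  rw [hj, Polynomial.resultant_add_right_deg p p.derivative d p.derivative.natDegree j le_rfl]
  exact mul_ne_zero (pow_ne_zero _ hlc) hr

theorem separable_of_resultant_ne_zero {K : Type u} [Field K] {p : Polynomial K} {d : ℕ} (hd : d ≠ 0)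
    (hp : p.natDegree ≤ d) (hr : Polynomial.resultant p p.derivative d (d - 1) ≠ 0) : p.Separable := by
  have hn : p.derivative.natDegree ≤ d - 1 :=
    (Polynomial.natDegree_derivative_le p).trans (Nat.sub_le_sub_right hp 1)
  obtain ⟨u, v, -, -, huv⟩ := Polynomial.exists_mul_add_mul_eq_C_resultant p p.derivative hp hn (Or.inl hd)
  refine ⟨Polynomial.C (Polynomial.resultant p p.derivative d (d - 1))⁻¹ * u,
    Polynomial.C (Polynomial.resultant p p.derivative d (d - 1))⁻¹ * v, ?_⟩
  calc _ = Polynomial.C (Polynomial.resultant p p.derivative d (d - 1))⁻¹ * (p * u + p.derivative * v) := by ring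
    _ = 1 := by rw [huv, ← Polynomial.C_mul, inv_mul_cancel₀ hr, Polynomial.C_1]

/-- A squarefree form has a separable restriction of full degree to some line. -/
theorem exists_line [IsAlgClosed k] {F : MvPolynomial σ k} {d : ℕ} (hd : d ≠ 0) (hF : F.IsHomogeneous d)
    (hsq : Squarefree F) :
    ∃ a b : σ → k, (line a b F).coeff d ≠ 0 ∧ (line a b F).Separable := by
  classical
  obtain ⟨b, hb, hrel⟩ := exists_dir hsq
  let P : Polynomial (MvPolynomial σ k) := line (X : σ → (MvPolynomial σ k)) b F
  have hPd : P.natDegree ≤ d := (line_degree _ b F hF.totalDegree_le).1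
  have hPc : P.coeff d = algebraMap k (MvPolynomial σ k) (eval b F) := coeff_line_of_isHomogeneous _ b hF
  let c : Polynomial (MvPolynomial σ k) := Polynomial.C (algebraMap k (MvPolynomial σ k) (eval b F)⁻¹)
  have hunit : IsUnit (algebraMap k (MvPolynomial σ k) (eval b F)⁻¹) :=
    (isUnit_iff_ne_zero.2 (inv_ne_zero hb)).map _
  have hmonic : (c * P).Monic := by
    refine Polynomial.monic_of_natDegree_le_of_coeff_eq_one d ((Polynomial.natDegree_C_mul_le _ _).trans hPd) ?_
    rw [Polynomial.coeff_C_mul, hPc, ← map_mul, inv_mul_cancel₀ hb, map_one]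
  have hrelP : ∀ g : Polynomial (MvPolynomial σ k), g ∣ P → g ∣ P.derivative → IsUnit g := by
    intro g hg hg'
    let ψ : Polynomial (MvPolynomial σ k) →+* Polynomial (MvPolynomial σ k) :=
      Polynomial.eval₂RingHom (line (X : σ → (MvPolynomial σ k)) (-b)).toRingHom Polynomial.X
    let φ : Polynomial (MvPolynomial σ k) →+* Polynomial (MvPolynomial σ k) :=
      Polynomial.eval₂RingHom (line (X : σ → (MvPolynomial σ k)) b).toRingHom Polynomial.X
    have hψ : ∀ p : (MvPolynomial σ k), ψ (line (X : σ → (MvPolynomial σ k)) b p) = Polynomial.C p := fun p => by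
      induction p using MvPolynomial.induction_on with
      | C x => simp [ψ, line_C]
      | add p q hp hq => simp only [map_add, hp, hq]
      | mul_X p i hp =>
        rw [map_mul, map_mul, map_mul, hp, line_X]
        simp [ψ, line_X, line_C, MvPolynomial.algebraMap_eq]
    have hφψ : φ.comp ψ = RingHom.id _ := by
      refine Polynomial.ringHom_ext (fun p => ?_) (by simp [φ, ψ])
      induction p using MvPolynomial.induction_on with
      | C x => simp [φ, ψ, line_C, MvPolynomial.algebraMap_eq]
      | add p q hp hq => simp only [map_add, hp, hq]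
      | mul_X p i hp =>
        rw [map_mul, map_mul, hp]
        simp [φ, ψ, line_X, line_C, MvPolynomial.algebraMap_eq]
    have h1 : ψ g ∣ Polynomial.C F := hψ F ▸ map_dvd ψ hg
    have h2 : ψ g ∣ Polynomial.C (dir b F) := by
      rw [← hψ, ← derivative_line]; exact map_dvd ψ hg'
    have h0 : (ψ g).natDegree = 0 := Nat.eq_zero_of_le_zero
      ((Polynomial.natDegree_le_of_dvd h1 (by simpa using hsq.ne_zero)).trans (Polynomial.natDegree_C _).le)
    obtain ⟨c₀, hc₀⟩ := Polynomial.natDegree_eq_zero.1 h0
    rw [← hc₀] at h1 h2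
    have hu : IsUnit c₀ := hrel
      (by simpa using (Polynomial.C_dvd_iff_dvd_coeff _ _).1 h1 0)
      (by simpa using (Polynomial.C_dvd_iff_dvd_coeff _ _).1 h2 0)
    have : IsUnit (φ (ψ g)) := (hc₀ ▸ hu.map Polynomial.C : IsUnit (ψ g)).map φ
    rwa [← RingHom.comp_apply, hφψ] at this
  let K := FractionRing (MvPolynomial σ k)
  let i : (MvPolynomial σ k) →+* K := algebraMap (MvPolynomial σ k) K
  have hsepK : (P.map i).Separable := by
    show IsCoprime (P.map i) (P.map i).derivative
    rw [Polynomial.derivative_map]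
    refine IsRelPrime.isCoprime (WfDvdMonoid.isRelPrime_of_no_irreducible_factors (fun h => ?_) fun g hgi hg hg' => ?_)
    · have := congrArg (fun p => Polynomial.coeff p d) h.1
      simp only [Polynomial.coeff_map, Polynomial.coeff_zero, hPc] at this
      exact hb (by simpa [i] using this)
    · obtain ⟨g', hg''⟩ := IsIntegrallyClosed.eq_map_mul_C_of_dvd K hmonic
        (g := g) (by rw [Polynomial.map_mul]; exact hg.mul_left _)
      have hgd : g'.map i ∣ g := ⟨_, hg''.symm⟩
      have hlc : g.leadingCoeff ≠ 0 := Polynomial.leadingCoeff_ne_zero.2 hgi.ne_zero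
      have hg'm : g'.Monic := by
        have hm : (g'.map i).Monic := by
          have := congrArg Polynomial.leadingCoeff hg''
          rw [Polynomial.leadingCoeff_mul, Polynomial.leadingCoeff_C] at this
          exact mul_right_cancel₀ hlc (this.trans (one_mul _).symm)
        exact Polynomial.monic_of_injective (IsFractionRing.injective (MvPolynomial σ k) K) hm
      have hu := hrelP g' ((Polynomial.map_dvd_map i (IsFractionRing.injective (MvPolynomial σ k) K) hg'm).1 (hgd.trans hg))
        ((Polynomial.map_dvd_map i (IsFractionRing.injective (MvPolynomial σ k) K) hg'm).1 (hgd.trans hg'))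
      refine hgi.not_isUnit ?_
      rw [← hg'']
      exact (hu.map (Polynomial.mapRingHom i)).mul (Polynomial.isUnit_C.2 (isUnit_iff_ne_zero.2 hlc))
  have hr := resultant_ne_zero_of_separable (d := d) (Polynomial.natDegree_map_le.trans hPd)
    (by rw [Polynomial.coeff_map, hPc]; simpa [i] using hb) hsepK
  rw [Polynomial.derivative_map, Polynomial.resultant_map_map] at hr
  have hr' : Polynomial.resultant P P.derivative d (d - 1) ≠ 0 := fun h => hr (by rw [h, map_zero])
  obtain ⟨a, ha⟩ : ∃ a : σ → k, eval a (Polynomial.resultant P P.derivative d (d - 1)) ≠ 0 := by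
    by_contra h
    push Not at h
    exact hr' (funext fun x => by simpa using h x)
  let f : (MvPolynomial σ k) →ₐ[k] k := aeval a
  have hf : ∀ p : (MvPolynomial σ k), f.toRingHom p = eval a p := fun p => by simp [f, aeval_eq_eval]
  have hmap : P.map f.toRingHom = line a b F := by
    rw [map_line]
    exact congrArg (fun a' : σ → k => line a' b F) (funext fun j => by simp [f])
  refine ⟨a, b, by rw [coeff_line_of_isHomogeneous a b hF]; simpa using hb,
    separable_of_resultant_ne_zero hd (line_degree a b F hF.totalDegree_le).1 ?_⟩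
  rw [← hmap, Polynomial.derivative_map, Polynomial.resultant_map_map, hf]
  exact ha

end Groth.Agent.SqfreeFormLib
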